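import Groth.Agent.NormFieldX.Props
import Mathlib.RingTheory.LocalProperties.IntegrallyClosed
import Mathlib.AlgebraicGeometry.Morphisms.IsIso
import Mathlib.AlgebraicGeometry.Morphisms.Preimmersion

/-!
# Recognising normalizations in a field and their generic fibres
-/

universe u

open CategoryTheory CategoryTheory.Limits AlgebraicGeometry

set_option autoImplicit false
set_option linter.style.haveILetI false
set_option backward.isDefEq.respectTransparency false
set_option backward.isDefEq.respectTransparency.types false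

namespace Groth.Agent.NormUniq

open Groth.Agent.NormFieldX (pnt norm ν η)

lemma isIntegrallyClosed_sections {X : Scheme.{u}} [IsIntegral X] (hX : Pi1.IsNormalScheme X)
    {U : X.Opens} (hU : IsAffineOpen U) [Nonempty (U : Scheme.{u})] : IsIntegrallyClosed Γ(X, U) := by
  refine IsIntegrallyClosed.of_localization_maximal fun p _ hpm => ?_
  let q : PrimeSpectrum Γ(X, U) := ⟨p, hpm.isPrime⟩
  have hq : hU.fromSpec q ∈ U := hU.opensRange_fromSpec.le ⟨q, rfl⟩
  letI := TopCat.Presheaf.algebra_section_stalk X.presheaf (⟨hU.fromSpec q, hq⟩ : U)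
  haveI : IsLocalization.AtPrime (X.presheaf.stalk (hU.fromSpec q)) p := hU.isLocalization_stalk' q hq
  haveI := (hX (hU.fromSpec q)).2
  exact IsIntegrallyClosed.of_equiv (IsLocalization.algEquiv p.primeCompl
    (X.presheaf.stalk (hU.fromSpec q)) (Localization.AtPrime p)).toRingEquiv

variable {X W : Scheme.{u}} [IsIntegral X] {K : Type u} [Field K] (φ : X.functionField →+* K)
  (h : W ⟶ X) (g : Spec (CommRingCat.of K) ⟶ W) (hg : g ≫ h = pnt X K φ)

/-- Evaluation at the point `g`. -/
noncomputable def evalAt (V : W.Opens) (hV : g (IsLocalRing.closedPoint K) ∈ V) : Γ(W, V) →+* K :=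
  (W.presheaf.germ V _ hV ≫ Scheme.stalkClosedPointTo g).hom

include hg in
lemma map_mem {U : X.Opens} (hη : genericPoint X ∈ U) : g (IsLocalRing.closedPoint K) ∈ h ⁻¹ᵁ U := by
  show h (g (IsLocalRing.closedPoint K)) ∈ U
  rw [← Scheme.Hom.comp_apply, hg, NormFieldX.pnt_apply]
  exact hη

include hg in
lemma evalAt_app {U : X.Opens} (hη : genericPoint X ∈ U) (a : Γ(X, U)) :
    evalAt g (h ⁻¹ᵁ U) (map_mem φ h g hg hη) (h.app U a) =
      NormFieldX.baseHom φ hη a := by
  haveI : IsLocalHom (CommRingCat.ofHom φ).hom := inferInstanceAs (IsLocalHom φ)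
  have hU : pnt X K φ (IsLocalRing.closedPoint K) ∈ U := by rw [NormFieldX.pnt_apply]; exact hη
  have h2 : X.presheaf.germ U (h (g (IsLocalRing.closedPoint K))) (map_mem φ h g hg hη) ≫
      Scheme.stalkClosedPointTo (g ≫ h) =
      h.app U ≫ CommRingCat.ofHom (evalAt g (h ⁻¹ᵁ U) (map_mem φ h g hg hη)) := by
    rw [Scheme.stalkClosedPointTo_comp, Scheme.Hom.germ_stalkMap_assoc]
    rfl
  have gen : ∀ (f' : Spec (CommRingCat.of K) ⟶ X) (_ : f' = pnt X K φ)
      (h' : f' (IsLocalRing.closedPoint K) ∈ U),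
      X.presheaf.germ U _ h' ≫ Scheme.stalkClosedPointTo f' =
        X.presheaf.germ U _ hU ≫ Scheme.stalkClosedPointTo (pnt X K φ) := by
    rintro _ rfl h'; rfl
  have h1 := (gen _ hg _).symm.trans h2
  have h3 := Scheme.germ_stalkClosedPointTo_Spec_fromSpecStalk (R := CommRingCat.of K)
    (CommRingCat.ofHom φ) U (show pnt X K φ (IsLocalRing.closedPoint K) ∈ U from hU)
  exact (ConcreteCategory.congr_hom h1 a).symm.trans (ConcreteCategory.congr_hom h3 a)

include hg in
/-- A normal integral scheme, integral over `X`, with function field `K`, is the normalization. -/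
theorem isIso_desc [QuasiCompact (pnt X K φ)] [QuasiSeparated (pnt X K φ)]
    [IsIntegral W] (hW : Pi1.IsNormalScheme W) [IsIntegralHom h]
    (hgen : g (IsLocalRing.closedPoint K) = genericPoint W)
    (hψ : Function.Bijective (Scheme.stalkClosedPointTo g).hom) :
    IsIso ((pnt X K φ).normalizationDesc g h hg.symm) := by
  let d := (pnt X K φ).normalizationDesc g h hg.symm
  have hd1 : (pnt X K φ).toNormalization ≫ d = g := Scheme.Hom.toNormalization_normalizationDesc _ _ _ _
  have hd2 : d ≫ h = ν X K φ := Scheme.Hom.normalizationDesc_comp _ _ _ _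
  have hmem : ∀ x : W, ∃ U : X.affineOpens, x ∈ h ⁻¹ᵁ U.1 := fun x => by
    obtain ⟨U, hU, hxU, -⟩ := exists_isAffineOpen_mem_and_subset (x := h x) (U := ⊤) trivial
    exact ⟨⟨U, hU⟩, hxU⟩
  let ι := {U : X.affineOpens // genericPoint X ∈ U.1}
  have hι : ⨆ U : ι, h ⁻¹ᵁ U.1.1 = ⊤ := by
    refine eq_top_iff.2 fun x _ => ?_
    obtain ⟨U, hxU⟩ := hmem x
    exact TopologicalSpace.Opens.mem_iSup.2
      ⟨⟨U, NormFieldX.genericPoint_mem_of_nonempty (U := U.1) hxU⟩, hxU⟩
  refine (HasAffineProperty.iff_of_iSup_eq_top (P := MorphismProperty.isomorphisms Scheme.{u})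
    (fun U : ι => (⟨h ⁻¹ᵁ U.1.1, U.1.2.preimage h⟩ : W.affineOpens)) hι).2 fun U => ?_
  obtain ⟨⟨U, hU⟩, hη⟩ := U
  let V := h ⁻¹ᵁ U
  have hV : IsAffineOpen V := hU.preimage h
  haveI : IsAffineHom d := inferInstance
  refine ⟨hV.preimage d, ?_⟩
  rw [morphismRestrict_appTop]
  suffices hb : Function.Bijective (d.app V) by
    haveI : IsIso (d.app V) := (ConcreteCategory.isIso_iff_bijective _).2 hb
    have hiso : ∀ O : W.Opens, O = V → IsIso (d.app O) := by
      rintro O rfl
      infer_instance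
    haveI := hiso _ V.ι_image_top
    infer_instance
  have hgV : g (IsLocalRing.closedPoint K) ∈ V := map_mem φ h g hg hη
  have hηV : η X K φ ∈ d ⁻¹ᵁ V := by
    show d ((pnt X K φ).toNormalization (IsLocalRing.closedPoint K)) ∈ V
    rw [← Scheme.Hom.comp_apply, hd1]
    exact hgV
  have hcomp : ∀ b : Γ(W, V),
      evalAt (pnt X K φ).toNormalization (d ⁻¹ᵁ V) hηV (d.app V b) = evalAt g V hgV b := by
    intro b
    have h2 : W.presheaf.germ V (d (η X K φ)) hηV ≫
        Scheme.stalkClosedPointTo ((pnt X K φ).toNormalization ≫ d) =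
        d.app V ≫ CommRingCat.ofHom (evalAt (pnt X K φ).toNormalization (d ⁻¹ᵁ V) hηV) := by
      rw [Scheme.stalkClosedPointTo_comp, Scheme.Hom.germ_stalkMap_assoc]
      rfl
    have gen : ∀ (f' : Spec (CommRingCat.of K) ⟶ W) (_ : f' = g)
        (h' : f' (IsLocalRing.closedPoint K) ∈ V),
        W.presheaf.germ V _ h' ≫ Scheme.stalkClosedPointTo f' =
          W.presheaf.germ V _ hgV ≫ Scheme.stalkClosedPointTo g := by
      rintro _ rfl h'; rfl
    exact (ConcreteCategory.congr_hom ((gen _ hd1 _).symm.trans h2) b).symm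
  have key : ∀ (V' : (norm X K φ).Opens) (_ : V' = ν X K φ ⁻¹ᵁ U) (hm : η X K φ ∈ V'),
      Function.Injective (evalAt (pnt X K φ).toNormalization V' hm) ∧
      ∀ y : K, y ∈ Set.range (evalAt (pnt X K φ).toNormalization V' hm) →
        (NormFieldX.baseHom φ hη).IsIntegralElem y := by
    rintro V' rfl hm
    exact ⟨(NormFieldX.evalK_injective_and_mem_range hU hη).1,
      fun y hy => ((NormFieldX.evalK_injective_and_mem_range hU hη).2 y).1 hy⟩
  have hdV : d ⁻¹ᵁ V = ν X K φ ⁻¹ᵁ U := by
    rw [← hd2]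
    rfl
  obtain ⟨hinjN, hintN⟩ := key _ hdV hηV
  haveI : Nonempty (V : Scheme.{u}) := ⟨⟨_, hgV⟩⟩
  have hinjW : Function.Injective (evalAt g V hgV) :=
    hψ.1.comp (germ_injective_of_isIntegral W _ hgV)
  refine ⟨fun a b hab => hinjW (by rw [← hcomp, ← hcomp, hab]), fun c => ?_⟩
  obtain ⟨z, hz⟩ := hψ.2 (evalAt (pnt X K φ).toNormalization (d ⁻¹ᵁ V) hηV c)
  obtain ⟨P, hP, hPe⟩ := hintN _ ⟨c, rfl⟩
  have hzint : (W.presheaf.germ V _ hgV).hom.IsIntegralElem z := by
    refine ⟨P.map (h.app U).hom, hP.map _, hψ.1 ?_⟩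
    rw [map_zero, Polynomial.eval₂_map, Polynomial.hom_eval₂, hz]
    rw [show (Scheme.stalkClosedPointTo g).hom.comp ((W.presheaf.germ V _ hgV).hom.comp (h.app U).hom) =
      NormFieldX.baseHom φ hη from RingHom.ext fun a => evalAt_app φ h g hg hη a]
    exact hPe
  have gen : ∀ (x : W) (_ : x = genericPoint W) (hx : x ∈ V) (z : W.presheaf.stalk x),
      (W.presheaf.germ V x hx).hom.IsIntegralElem z → ∃ b, W.presheaf.germ V x hx b = z := by
    rintro x rfl hx z hz
    haveI : Nonempty V := ⟨⟨_, hx⟩⟩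
    haveI : IsFractionRing Γ(W, V) W.functionField := functionField_isFractionRing_of_isAffineOpen W V hV
    haveI := isIntegrallyClosed_sections hW hV
    exact IsIntegrallyClosed.isIntegral_iff.1 (show IsIntegral Γ(W, V) z from hz)
  obtain ⟨b, hb⟩ := gen _ hgen hgV z hzint
  refine ⟨b, hinjN ?_⟩
  rw [hcomp, ← hz, ← hb]
  rfl

include hg in
/-- Generic fibre. -/
theorem isPullback_genericFibre
    (hfib : h ⁻¹' {genericPoint X} = {g (IsLocalRing.closedPoint K)})
    (hfield : IsField (W.presheaf.stalk (g (IsLocalRing.closedPoint K))))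
    (hψ : Function.Bijective (Scheme.stalkClosedPointTo g).hom) :
    IsPullback g (Spec.map (CommRingCat.ofHom φ)) h (X.fromSpecStalk (genericPoint X)) := by
  haveI : IsPreimmersion g := by
    rw [← Scheme.Spec_stalkClosedPointTo_fromSpecStalk g]
    haveI : IsIso (Scheme.stalkClosedPointTo g) := (ConcreteCategory.isIso_iff_bijective _).2 hψ
    infer_instance
  let j := pullback.fst h (X.fromSpecStalk (genericPoint X))
  let k := pullback.lift g (Spec.map (CommRingCat.ofHom φ)) hg
  have hkj : k ≫ j = g := pullback.lift_fst _ _ _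
  haveI : IsPreimmersion k := by
    haveI : IsPreimmersion (k ≫ j) := hkj ▸ inferInstance
    exact IsPreimmersion.of_comp k j
  have hj : ∀ p, j p = g (IsLocalRing.closedPoint K) := fun p => by
    have : j p ∈ Set.range j := ⟨p, rfl⟩
    rw [Scheme.Pullback.range_fst, Set.mem_preimage, Scheme.range_fromSpecStalk] at this
    have h2 : h (j p) = genericPoint X := ((genericPoint_specializes (h (j p))).antisymm this).eq.symm
    exact hfib.subset h2
  have hsub : Subsingleton (pullback h (X.fromSpecStalk (genericPoint X)) :) :=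
    ⟨fun p q => (Scheme.Hom.isEmbedding j).injective ((hj p).trans (hj q).symm)⟩
  haveI : Surjective k := ⟨fun p => ⟨IsLocalRing.closedPoint K, Subsingleton.elim _ _⟩⟩
  have hopen : Topology.IsOpenEmbedding k :=
    ⟨Scheme.Hom.isEmbedding k, by
      rw [Set.range_eq_univ.2 k.surjective]; exact isOpen_univ⟩
  haveI : ∀ x, IsIso (k.stalkMap x) := fun x => by
    refine (ConcreteCategory.isIso_iff_bijective _).2 ⟨?_, k.stalkMap_surjective x⟩
    have hx : x = IsLocalRing.closedPoint K := Subsingleton.elim _ _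
    subst hx
    have hF : IsField (W.presheaf.stalk (j (k (IsLocalRing.closedPoint K)))) := by
      rw [hj]; exact hfield
    letI := hF.toField
    letI : Field (W.presheaf.stalk ((k ≫ j) (IsLocalRing.closedPoint K))) := hF.toField
    intro a b hab
    obtain ⟨a', rfl⟩ := j.stalkMap_surjective _ a
    obtain ⟨b', rfl⟩ := j.stalkMap_surjective _ b
    refine congrArg _ (((k ≫ j).stalkMap (IsLocalRing.closedPoint K)).hom.injective ?_)
    rw [Scheme.Hom.stalkMap_comp]
    exact hab
  haveI : IsOpenImmersion k := IsOpenImmersion.of_isIso_stalkMap k hopen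
  haveI : IsIso k := (isIso_iff_isOpenImmersion_and_surjective k).2 ⟨inferInstance, inferInstance⟩
  exact IsPullback.of_iso_pullback ⟨hg⟩ (asIso k) (pullback.lift_fst _ _ _) (pullback.lift_snd _ _ _)

end Groth.Agent.NormUniq
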